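import Mathlib.RingTheory.PowerSeries.Order
import Mathlib.RingTheory.Localization.FractionRing
import Mathlib.RingTheory.Localization.Integer
import Mathlib.RingTheory.Localization.BaseChange
import Mathlib.LinearAlgebra.Dimension.Free
import Mathlib.LinearAlgebra.Dimension.Finite
import Mathlib.LinearAlgebra.Dimension.Constructions
import Mathlib.RingTheory.TensorProduct.Basic
import Mathlib.Data.Set.Card
import Mathlib.RingTheory.PowerSeries.Inverse
import Mathlib.RingTheory.PowerSeries.NoZeroDivisors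
import Mathlib.LinearAlgebra.FreeModule.Finite.Basic
import Mathlib.LinearAlgebra.Basis.VectorSpace

/-!
# Rank one lattices in `k⟦t⟧` over a monomial curve ring
-/

set_option autoImplicit false
universe u

open PowerSeries

namespace LatticeOneLib

variable {k : Type u} [Field k]

/-- `f` has order exactly `n`. -/
def HasOrd (f : k⟦X⟧) (n : ℕ) : Prop := coeff n f ≠ 0 ∧ ∀ i < n, coeff i f = 0

theorem hasOrd_iff {f : k⟦X⟧} {n : ℕ} : HasOrd f n ↔ f.order = n := order_eq_nat.symm

theorem hasOrd_mul {f g : k⟦X⟧} {m n : ℕ} (hf : HasOrd f m) (hg : HasOrd g n) : HasOrd (f * g) (m + n) := by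
  rw [hasOrd_iff] at *
  rw [order_mul, hf, hg, Nat.cast_add]

theorem exists_hasOrd {f : k⟦X⟧} (hf : f ≠ 0) : ∃ n, HasOrd f n :=
  ⟨f.order.toNat, hasOrd_iff.2 (coe_toNat_order hf).symm⟩

theorem hasOrd_X_pow (n : ℕ) : HasOrd ((X : k⟦X⟧) ^ n) n := hasOrd_iff.2 (order_X_pow n)

/-- The orders of elements of a subspace. -/
def ords (N : Submodule k k⟦X⟧) : Set ℕ := {n | ∃ f ∈ N, HasOrd f n}

theorem mem_of_ords (N : Submodule k k⟦X⟧) (a c : ℕ) (hc : ∀ f : k⟦X⟧, (∀ i < c, coeff i f = 0) → f ∈ N)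
    (hΔ : ∀ n, a ≤ n → n < c → n ∈ ords N) : ∀ f : k⟦X⟧, (∀ i < a, coeff i f = 0) → f ∈ N := by
  suffices h : ∀ r b, a ≤ b → c ≤ b + r → ∀ f : k⟦X⟧, (∀ i < b, coeff i f = 0) → f ∈ N from
    h c a le_rfl (Nat.le_add_left _ _)
  intro r
  induction r with
  | zero => exact fun b _ hb f hf => hc f fun i hi => hf i (by omega)
  | succ r ih =>
    intro b hab hb f hf
    rcases le_or_gt c b with hcb | hcb
    · exact hc f fun i hi => hf i (by omega)
    · obtain ⟨g, hg, hg1, hg2⟩ := hΔ b hab hcb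
      have : f - (coeff b f / coeff b g) • g ∈ N := ih (b + 1) (by omega) (by omega) _ fun i hi => by
        rw [map_sub, map_smul, smul_eq_mul]
        rcases Nat.lt_succ_iff_lt_or_eq.1 hi with h | rfl
        · rw [hf i h, hg2 i h, mul_zero, sub_zero]
        · rw [div_mul_cancel₀ _ hg1, sub_self]
      simpa using N.add_mem this (N.smul_mem (coeff b f / coeff b g) hg)

open Classical in
/-- The gaps below `c`. -/
noncomputable def gaps (N : Submodule k k⟦X⟧) (c : ℕ) : Finset ℕ := (Finset.range c).filter fun n => n ∉ ords N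

theorem finrank_quotient (N : Submodule k k⟦X⟧) (c : ℕ) (hc : ∀ f : k⟦X⟧, (∀ i < c, coeff i f = 0) → f ∈ N) :
    Module.finrank k (k⟦X⟧ ⧸ N) = (gaps N c).card := by
  classical
  let ψ : (gaps N c → k) →ₗ[k] k⟦X⟧ ⧸ N :=
    Fintype.linearCombination k (fun n : gaps N c => N.mkQ ((X : k⟦X⟧) ^ (n : ℕ)))
  have hψ : ∀ g : gaps N c → k, ψ g = N.mkQ (∑ n, g n • (X : k⟦X⟧) ^ (n : ℕ)) := fun g => by
    rw [Fintype.linearCombination_apply, map_sum]
    exact Finset.sum_congr rfl fun n _ => (map_smul N.mkQ (g n) _).symm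
  have hcoeff : ∀ (g : gaps N c → k) (i : ℕ), coeff i (∑ n, g n • (X : k⟦X⟧) ^ (n : ℕ)) =
      if h : i ∈ gaps N c then g ⟨i, h⟩ else 0 := by
    intro g i
    rw [map_sum]
    split_ifs with h
    · rw [Finset.sum_eq_single ⟨i, h⟩]
      · simp
      · intro b _ hb
        rw [map_smul, coeff_X_pow, if_neg (fun e => hb (Subtype.ext e.symm)), smul_zero]
      · simp
    · refine Finset.sum_eq_zero fun b _ => ?_
      rw [map_smul, coeff_X_pow, if_neg (fun e : i = (b : ℕ) => h (by rw [e]; exact b.2)), smul_zero]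
  have hinj : Function.Injective ψ := by
    refine (injective_iff_map_eq_zero ψ).2 fun g hg => ?_
    rw [hψ, Submodule.mkQ_apply, Submodule.Quotient.mk_eq_zero] at hg
    by_contra hne
    have hf : (∑ n, g n • (X : k⟦X⟧) ^ (n : ℕ)) ≠ 0 := by
      intro h0
      apply hne
      funext n
      have h1 := hcoeff g n
      rw [h0, map_zero, dif_pos n.2] at h1
      exact h1.symm
    obtain ⟨m, hm⟩ := exists_hasOrd hf
    have h1 := hm.1
    rw [hcoeff] at h1
    split_ifs at h1 with h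
    · exact (Finset.mem_filter.1 h).2 ⟨_, hg, hm⟩
    · exact h1 rfl
  have hsurj : Function.Surjective ψ := by
    suffices h : ∀ r b, c ≤ b + r → ∀ f : k⟦X⟧, (∀ i < b, coeff i f = 0) → N.mkQ f ∈ LinearMap.range ψ by
      intro z
      obtain ⟨f, rfl⟩ := N.mkQ_surjective z
      exact h c 0 (by omega) f (fun i hi => absurd hi (Nat.not_lt_zero i))
    intro r
    induction r with
    | zero =>
      intro b hb f hf
      rw [show N.mkQ f = 0 from (Submodule.Quotient.mk_eq_zero N).2 (hc f fun i hi => hf i (by omega))]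
      exact zero_mem _
    | succ r ih =>
      intro b hb f hf
      rcases le_or_gt c b with hcb | hcb
      · rw [show N.mkQ f = 0 from (Submodule.Quotient.mk_eq_zero N).2 (hc f fun i hi => hf i (by omega))]
        exact zero_mem _
      by_cases hbΔ : b ∈ ords N
      · obtain ⟨g, hg, hg1, hg2⟩ := hbΔ
        have := ih (b + 1) (by omega) (f - (coeff b f / coeff b g) • g) fun i hi => by
          rw [map_sub, map_smul, smul_eq_mul]
          rcases Nat.lt_succ_iff_lt_or_eq.1 hi with h | rfl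
          · rw [hf i h, hg2 i h, mul_zero, sub_zero]
          · rw [div_mul_cancel₀ _ hg1, sub_self]
        rwa [map_sub, map_smul, show N.mkQ g = 0 from (Submodule.Quotient.mk_eq_zero N).2 hg, smul_zero, sub_zero] at this
      · have hb' : b ∈ gaps N c := Finset.mem_filter.2 ⟨Finset.mem_range.2 hcb, hbΔ⟩
        have := ih (b + 1) (by omega) (f - coeff b f • (X : k⟦X⟧) ^ b) fun i hi => by
          rw [map_sub, map_smul, smul_eq_mul, coeff_X_pow]
          rcases Nat.lt_succ_iff_lt_or_eq.1 hi with h | rfl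
          · rw [hf i h, if_neg h.ne, mul_zero, sub_zero]
          · rw [if_pos rfl, mul_one, sub_self]
        rw [map_sub, map_smul] at this
        have hx : N.mkQ ((X : k⟦X⟧) ^ b) ∈ LinearMap.range ψ :=
          ⟨Pi.single ⟨b, hb'⟩ 1, by rw [Fintype.linearCombination_apply_single, one_smul]⟩
        simpa using add_mem this (Submodule.smul_mem _ (coeff b f) hx)
  rw [← (LinearEquiv.ofBijective ψ ⟨hinj, hsurj⟩).finrank_eq, Module.finrank_pi, Fintype.card_coe]

variable (A : Subalgebra k k⟦X⟧) (M : Type u) [AddCommGroup M] [Module A M] [Module.Finite A M]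
  [NoZeroSMulDivisors A M]

theorem exists_embedding (hrk : Module.finrank (FractionRing A) (TensorProduct A (FractionRing A) M) = 1) :
    ∃ ψ : M →ₗ[A] k⟦X⟧, Function.Injective ψ ∧ ∃ x, ψ x ≠ 0 := by
  classical
  let F := FractionRing A
  let V := TensorProduct A F M
  haveI : Module.Finite F V := Module.finite_of_finrank_eq_succ hrk
  haveI : Nontrivial V := Module.nontrivial_of_finrank_pos (R := F) (by rw [hrk]; exact Nat.one_pos)
  let e : V ≃ₗ[F] F := (Module.finBasisOfFinrankEq F V hrk).equivFun.trans (LinearEquiv.funUnique (Fin 1) F F)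
  let ι : M →ₗ[A] V := TensorProduct.mk A F M 1
  haveI : IsLocalizedModule (nonZeroDivisors A) ι :=
    (isLocalizedModule_iff_isBaseChange (nonZeroDivisors A) F ι).2 (TensorProduct.isBaseChange A M F)
  have hι : Function.Injective ι := by
    refine (injective_iff_map_eq_zero ι).2 fun x hx => ?_
    obtain ⟨s, hs⟩ := (IsLocalizedModule.eq_zero_iff (nonZeroDivisors A) ι).1 hx
    exact (smul_eq_zero.1 hs).resolve_left (nonZeroDivisors.coe_ne_zero s)
  let φ : M →ₗ[A] F := (e.toLinearMap.restrictScalars A) ∘ₗ ι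
  have hφ : Function.Injective φ := e.injective.comp hι
  obtain ⟨s, hs⟩ := (inferInstance : Module.Finite A M).1
  obtain ⟨b, hb⟩ := IsLocalization.exist_integer_multiples (nonZeroDivisors A) s φ
  let φ' : M →ₗ[A] F := (b : A) • φ
  have hrange : ∀ x, φ' x ∈ LinearMap.range (Algebra.linearMap A F) := by
    intro x
    have : x ∈ Submodule.span A (s : Set M) := by rw [hs]; trivial
    induction this using Submodule.span_induction with
    | mem y hy => obtain ⟨r, hr⟩ := hb y hy; exact ⟨r, hr⟩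
    | zero => rw [map_zero]; exact zero_mem _
    | add y z _ _ hy hz => rw [map_add]; exact add_mem hy hz
    | smul r y _ hy => rw [map_smul]; exact Submodule.smul_mem _ r hy
  have hinj : Function.Injective (Algebra.linearMap A F) := IsFractionRing.injective A F
  let ψ : M →ₗ[A] k⟦X⟧ := (Algebra.linearMap A k⟦X⟧) ∘ₗ
    (LinearEquiv.ofInjective (Algebra.linearMap A F) hinj).symm.toLinearMap ∘ₗ φ'.codRestrict _ hrange
  have hψ : Function.Injective ψ := by
    refine Subtype.val_injective.comp ((LinearEquiv.ofInjective (Algebra.linearMap A F) hinj).symm.injective.comp ?_)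
    intro x y hxy
    have h1 : (b : A) • φ x = (b : A) • φ y := congrArg Subtype.val hxy
    exact hφ (smul_right_injective F (nonZeroDivisors.coe_ne_zero b) h1)
  refine ⟨ψ, hψ, ?_⟩
  by_contra! h
  have hM : ∀ x : M, x = 0 := fun x => hψ ((h x).trans (map_zero ψ).symm)
  suffices hV : ∀ v : V, v = 0 by
    obtain ⟨v, hv⟩ := exists_ne (0 : V)
    exact hv (hV v)
  intro v
  induction v using TensorProduct.induction_on with
  | zero => rfl
  | tmul a m => rw [hM m, TensorProduct.tmul_zero]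
  | add a a' ha ha' => rw [ha, ha', add_zero]

theorem main (hbir : ∀ f : k⟦X⟧, ∃ a ∈ A, a ≠ 0 ∧ a * f ∈ A) (Γ : Set ℕ)
    (hΓ : ∀ n : ℕ, n ∈ Γ ↔ ∃ f ∈ A, PowerSeries.order f = n)
    (hmono : ∀ f : k⟦X⟧, f ∈ A ↔ ∀ n : ℕ, coeff n f ≠ 0 → n ∈ Γ)
    (hrk : Module.finrank (FractionRing A) (TensorProduct A (FractionRing A) M) = 1) :
    ∃ M' : Submodule A k⟦X⟧, (Ideal.span {(X : k⟦X⟧) ^ (2 * Γᶜ.ncard)}).restrictScalars A ≤ M' ∧
      Nonempty (M ≃ₗ[A] M') ∧ Module.finrank k (k⟦X⟧ ⧸ M'.restrictScalars k) = Γᶜ.ncard := by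
  classical
  have hΓ' : ∀ n, n ∈ Γ ↔ ∃ f ∈ A, HasOrd f n := fun n => by simp only [hΓ, hasOrd_iff]
  have hadd : ∀ {m n}, m ∈ Γ → n ∈ Γ → m + n ∈ Γ := fun {m n} hm hn => by
    rw [hΓ'] at *
    obtain ⟨f, hf, hf'⟩ := hm
    obtain ⟨g, hg, hg'⟩ := hn
    exact ⟨f * g, A.mul_mem hf hg, hasOrd_mul hf' hg'⟩
  have hzero : 0 ∈ Γ := (hΓ' 0).2 ⟨1, A.one_mem, by simp [HasOrd]⟩
  have hmul : ∀ {m}, m ∈ Γ → ∀ r, r * m ∈ Γ := fun {m} hm r => by
    induction r with
    | zero => simpa using hzero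
    | succ r ih => rw [Nat.succ_mul]; exact hadd ih hm
  obtain ⟨c, hc⟩ : ∃ c, ∀ n, c ≤ n → n ∈ Γ := by
    obtain ⟨a, ha, ha0, haX⟩ := hbir (X : k⟦X⟧)
    obtain ⟨n, hn⟩ := exists_hasOrd ha0
    have h1 : n ∈ Γ := (hΓ' n).2 ⟨a, ha, hn⟩
    have h2 : n + 1 ∈ Γ := (hΓ' _).2 ⟨_, haX, hasOrd_mul hn (by simpa using hasOrd_X_pow (k := k) 1)⟩
    refine ⟨n * n, fun N hN => ?_⟩
    rcases Nat.eq_zero_or_pos n with rfl | hn0
    · simpa using hmul h2 N
    · have hr : N % n ≤ N / n := (Nat.mod_lt _ hn0).le.trans ((Nat.le_div_iff_mul_le hn0).2 hN)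
      have he : (N / n - N % n) * n + N % n * (n + 1) = N := by
        have : N % n * n ≤ N / n * n := Nat.mul_le_mul_right n hr
        have := Nat.div_add_mod' N n
        rw [Nat.sub_mul, Nat.mul_add, Nat.mul_one]
        omega
      rw [← he]
      exact hadd (hmul h1 _) (hmul h2 _)
  set G := (Finset.range c).filter (fun n => n ∉ Γ) with hG
  have hGc : Γᶜ.ncard = G.card := by
    rw [← Set.ncard_coe_finset]
    congr 1
    ext n
    simp only [hG, Set.mem_compl_iff, Finset.coe_filter, Finset.mem_range, Set.mem_setOf_eq]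
    exact ⟨fun h => ⟨not_le.1 fun h' => h (hc n h'), h⟩, fun h => h.2⟩
  rw [hGc]
  set δ := G.card
  obtain ⟨ψ, hψ, x0, hx0⟩ := exists_embedding A M hrk
  have hP : ∃ n, n ∈ ords ((LinearMap.range ψ).restrictScalars k) := by
    obtain ⟨n, hn⟩ := exists_hasOrd hx0
    exact ⟨n, ψ x0, ⟨x0, rfl⟩, hn⟩
  set m := Nat.find hP with hm
  obtain ⟨u1, ⟨xu, rfl⟩, hxu⟩ := Nat.find_spec hP
  have hdvd : ∀ x, ψ x ∈ LinearMap.range (LinearMap.mulLeft A ((X : k⟦X⟧) ^ m)) := by
    intro x
    suffices (X : k⟦X⟧) ^ m ∣ ψ x by obtain ⟨g, hg⟩ := this; exact ⟨g, hg.symm⟩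
    rw [X_pow_dvd_iff]
    intro i hi
    by_cases h0 : ψ x = 0
    · simp [h0]
    obtain ⟨n, hn⟩ := exists_hasOrd h0
    exact hn.2 i (lt_of_lt_of_le hi (Nat.find_le ⟨ψ x, ⟨x, rfl⟩, hn⟩))
  have hXm : Function.Injective (LinearMap.mulLeft A ((X : k⟦X⟧) ^ m)) :=
    mul_right_injective₀ (pow_ne_zero m X_ne_zero)
  let ψ' : M →ₗ[A] k⟦X⟧ :=
    (LinearEquiv.ofInjective _ hXm).symm.toLinearMap ∘ₗ ψ.codRestrict _ hdvd
  have hψ' : ∀ x, (X : k⟦X⟧) ^ m * ψ' x = ψ x := fun x =>
    congrArg Subtype.val ((LinearEquiv.ofInjective _ hXm).apply_symm_apply (ψ.codRestrict _ hdvd x))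
  have hψ'inj : Function.Injective ψ' := fun x y h => hψ (by rw [← hψ' x, ← hψ' y, h])
  set N := (LinearMap.range ψ').restrictScalars k with hN
  have h0N : 0 ∈ ords N := by
    refine ⟨ψ' xu, ⟨xu, rfl⟩, ?_, fun i hi => absurd hi (Nat.not_lt_zero i)⟩
    have := hxu.1
    rw [← hψ', ← hm] at this
    have h := coeff_X_pow_mul (ψ' xu) m 0
    rw [zero_add] at h
    rwa [h] at this
  have hΓN : ∀ {γ n}, γ ∈ Γ → n ∈ ords N → γ + n ∈ ords N := fun {γ n} hγ hn => by
    obtain ⟨a, ha, ha'⟩ := (hΓ' γ).1 hγ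
    obtain ⟨f, ⟨x, rfl⟩, hf⟩ := hn
    exact ⟨a * ψ' x, ⟨(⟨a, ha⟩ : A) • x, by rw [map_smul]; rfl⟩, hasOrd_mul ha' hf⟩
  have hsub : ∀ {n}, n ∈ Γ → n ∈ ords N := fun {n} hn => by simpa using hΓN hn h0N
  have hcN : ∀ f : k⟦X⟧, (∀ i < c, coeff i f = 0) → f ∈ N := by
    intro f hf
    obtain ⟨f0, ⟨x, rfl⟩, hx, -⟩ := h0N
    have hunit : IsUnit (ψ' x) := isUnit_iff_constantCoeff.2 (isUnit_iff_ne_zero.2 (by rwa [← coeff_zero_eq_constantCoeff_apply]))
    obtain ⟨w, hw⟩ := hunit.exists_left_inv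
    have hfw : f * w ∈ A := by
      rw [hmono]
      intro i hi
      refine hc i (not_lt.1 fun hlt => hi ?_)
      rw [coeff_mul]
      refine Finset.sum_eq_zero fun p hp => ?_
      rw [Finset.mem_antidiagonal] at hp
      rw [hf p.1 (by omega), zero_mul]
    refine ⟨(⟨f * w, hfw⟩ : A) • x, ?_⟩
    rw [map_smul]
    show f * w * ψ' x = f
    rw [mul_assoc, hw, mul_one]
  set e := (gaps N c).card with he
  have heδ : e ≤ δ := Finset.card_le_card fun n hn => by
    rw [gaps, Finset.mem_filter] at hn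
    rw [hG, Finset.mem_filter]
    exact ⟨hn.1, fun h => hn.2 (hsub h)⟩
  have hhigh : ∀ n, δ + e ≤ n → n ∈ ords N := by
    intro n hn
    by_contra hne
    have hnc : n < c := not_le.1 fun h => hne (hsub (hc n h))
    have h1 : ((Finset.range (n + 1)).filter (fun γ => γ ∈ Γ)).card ≤ e := by
      refine Finset.card_le_card_of_injOn (fun γ => n - γ) ?_ ?_
      · intro γ hγ
        simp only [Finset.coe_filter, Finset.mem_range, Set.mem_setOf_eq] at hγ
        simp only [gaps, Finset.coe_filter, Finset.mem_range, Set.mem_setOf_eq]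
        refine ⟨by omega, fun h => hne ?_⟩
        have := hΓN hγ.2 h
        rwa [Nat.add_sub_cancel' (by omega)] at this
      · intro a ha b hb hab
        simp only [Finset.coe_filter, Finset.mem_range, Set.mem_setOf_eq] at ha hb
        simp only at hab
        omega
    have h2 : n + 1 ≤ ((Finset.range (n + 1)).filter (fun γ => γ ∈ Γ)).card + δ := by
      have h3 := Finset.card_filter_add_card_filter_not (s := Finset.range (n + 1)) (fun γ => γ ∈ Γ)
      rw [Finset.card_range] at h3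
      have h4 : ((Finset.range (n + 1)).filter (fun γ => γ ∉ Γ)).card ≤ δ := Finset.card_le_card fun i hi => by
        simp only [Finset.mem_filter, Finset.mem_range] at hi
        rw [hG, Finset.mem_filter, Finset.mem_range]
        exact ⟨not_le.1 fun h => hi.2 (hc i h), hi.2⟩
      omega
    omega
  set j := δ - e with hj
  let φ : M →ₗ[A] k⟦X⟧ := LinearMap.mulLeft A ((X : k⟦X⟧) ^ j) ∘ₗ ψ'
  have hφ : Function.Injective φ := (mul_right_injective₀ (pow_ne_zero j X_ne_zero)).comp hψ'inj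
  set N' := (LinearMap.range φ).restrictScalars k with hN'
  have hshift : ∀ (f : k⟦X⟧) (b : ℕ), (∀ i < b + j, coeff i f = 0) →
      (∀ g : k⟦X⟧, (∀ i < b, coeff i g = 0) → g ∈ N) → f ∈ N' := by
    intro f b hf hb
    obtain ⟨g, rfl⟩ : (X : k⟦X⟧) ^ j ∣ f := X_pow_dvd_iff.2 fun i hi => hf i (by omega)
    obtain ⟨x, hx⟩ := hb g fun i hi => by
      have := hf (i + j) (by omega)
      rwa [coeff_X_pow_mul] at this
    exact ⟨x, by show (X : k⟦X⟧) ^ j * ψ' x = _; rw [hx]⟩
  have hords : ∀ n, n ∈ ords N' ↔ ∃ i, n = i + j ∧ i ∈ ords N := by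
    intro n
    constructor
    · rintro ⟨_, ⟨x, rfl⟩, hx⟩
      have hne : ψ' x ≠ 0 := fun h => hx.1 (by simp [φ, h])
      obtain ⟨i, hi⟩ := exists_hasOrd hne
      refine ⟨i, ?_, ψ' x, ⟨x, rfl⟩, hi⟩
      have h := hasOrd_mul (hasOrd_X_pow (k := k) j) hi
      rw [hasOrd_iff] at h hx
      have := h.symm.trans hx
      rw [Nat.cast_inj] at this
      omega
    · rintro ⟨i, rfl, _, ⟨x, rfl⟩, hx⟩
      exact ⟨φ x, ⟨x, rfl⟩, by rw [add_comm]; exact hasOrd_mul (hasOrd_X_pow j) hx⟩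
  refine ⟨LinearMap.range φ, ?_, ⟨LinearEquiv.ofInjective φ hφ⟩, ?_⟩
  · intro f hf
    rw [Submodule.restrictScalars_mem, Ideal.mem_span_singleton, X_pow_dvd_iff] at hf
    exact hshift f (δ + e) (fun i hi => hf i (by omega)) (mem_of_ords N _ c hcN fun n hn _ => hhigh n hn)
  · show Module.finrank k (k⟦X⟧ ⧸ N') = δ
    rw [finrank_quotient N' (c + j) fun f hf => hshift f c hf hcN]
    have : gaps N' (c + j) = Finset.range j ∪ (gaps N c).map (addRightEmbedding j) := by
      ext n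
      simp only [gaps, Finset.mem_filter, Finset.mem_range, Finset.mem_union, Finset.mem_map, addRightEmbedding_apply, hords]
      constructor
      · rintro ⟨h1, h2⟩
        rcases lt_or_ge n j with h | h
        · exact Or.inl h
        · exact Or.inr ⟨n - j, ⟨by omega, fun h' => h2 ⟨n - j, by omega, h'⟩⟩, by omega⟩
      · rintro (h | ⟨i, ⟨h1, h2⟩, rfl⟩)
        · exact ⟨by omega, fun ⟨i, hi, _⟩ => by omega⟩
        · exact ⟨by omega, fun ⟨i', hi, h'⟩ => h2 (by rwa [show i = i' by omega])⟩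
    rw [this, Finset.card_union_of_disjoint, Finset.card_range, Finset.card_map, ← he]
    · omega
    · rw [Finset.disjoint_left]
      intro n hn hn'
      simp only [Finset.mem_range, Finset.mem_map, addRightEmbedding_apply] at hn hn'
      obtain ⟨i, -, rfl⟩ := hn'
      omega

end LatticeOneLib
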